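import Mathlib.RingTheory.Length
import Mathlib.RingTheory.UniqueFactorizationDomain.Basic
import Mathlib.RingTheory.UniqueFactorizationDomain.GCDMonoid
import Mathlib.RingTheory.Ideal.Quotient.Operations
import Mathlib.LinearAlgebra.Quotient.Basic
import Mathlib.Tactic

/-!
# Lengths of quotients by two coprime elements
-/

universe u

namespace Groth.Agent.DimTwoLib

variable {A : Type u} [CommRing A] [IsDomain A] [UniqueFactorizationMonoid A]

theorem length_mul (f g h : A) (hfg : IsRelPrime f g) :
    Module.length A (A ⧸ Ideal.span ({f * h, g} : Set A)) =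
      Module.length A (A ⧸ Ideal.span ({f, g} : Set A)) + Module.length A (A ⧸ Ideal.span ({h, g} : Set A)) := by
  let φ : (A ⧸ Ideal.span ({h, g} : Set A)) →ₗ[A] (A ⧸ Ideal.span ({f * h, g} : Set A)) :=
    Submodule.mapQ _ _ (LinearMap.mulLeft A f) (by
      intro x hx
      obtain ⟨a, b, rfl⟩ := Ideal.mem_span_pair.1 hx
      exact Ideal.mem_span_pair.2 ⟨a, f * b, by simp; ring⟩)
  let ψ : (A ⧸ Ideal.span ({f * h, g} : Set A)) →ₗ[A] (A ⧸ Ideal.span ({f, g} : Set A)) :=
    Submodule.mapQ _ _ LinearMap.id (by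
      intro x hx
      obtain ⟨a, b, rfl⟩ := Ideal.mem_span_pair.1 hx
      exact Ideal.mem_span_pair.2 ⟨a * h, b, by ring⟩)
  rw [add_comm]
  refine Module.length_eq_add_of_exact φ ψ ?_ ?_ ?_
  · rw [injective_iff_map_eq_zero]
    intro z hz
    obtain ⟨x, rfl⟩ := Submodule.Quotient.mk_surjective _ z
    rw [Submodule.mapQ_apply, Submodule.Quotient.mk_eq_zero] at hz
    obtain ⟨a, b, hab⟩ := Ideal.mem_span_pair.1 hz
    rw [LinearMap.mulLeft_apply] at hab
    have hdvd : g ∣ f * (x - a * h) := ⟨b, by linear_combination -hab⟩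
    obtain ⟨c, hc⟩ := hfg.symm.dvd_of_dvd_mul_left hdvd
    rw [Submodule.Quotient.mk_eq_zero]
    exact Ideal.mem_span_pair.2 ⟨a, c, by linear_combination -hc⟩
  · intro z
    obtain ⟨x, rfl⟩ := Submodule.Quotient.mk_surjective _ z
    exact ⟨Submodule.Quotient.mk x, rfl⟩
  · intro z
    obtain ⟨x, rfl⟩ := Submodule.Quotient.mk_surjective _ z
    constructor
    · intro hz
      rw [Submodule.mapQ_apply, Submodule.Quotient.mk_eq_zero] at hz
      obtain ⟨a, b, hab⟩ := Ideal.mem_span_pair.1 hz
      refine ⟨Submodule.Quotient.mk a, ?_⟩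
      rw [Submodule.mapQ_apply, LinearMap.mulLeft_apply, Submodule.Quotient.eq]
      exact Ideal.mem_span_pair.2 ⟨0, -b, by rw [LinearMap.id_apply] at hab; linear_combination -hab⟩
    · rintro ⟨w, hw⟩
      obtain ⟨a, rfl⟩ := Submodule.Quotient.mk_surjective _ w
      rw [← hw, Submodule.mapQ_apply, Submodule.mapQ_apply, Submodule.Quotient.mk_eq_zero]
      exact Ideal.mem_span_pair.2 ⟨a, 0, by simp; ring⟩

theorem length_prod_coprime {ι : Type*} (s : Finset ι) (f : ι → A) (g : A) (h : ∀ i ∈ s, IsRelPrime (f i) g) :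
    Module.length A (A ⧸ Ideal.span ({∏ i ∈ s, f i, g} : Set A)) =
      ∑ i ∈ s, Module.length A (A ⧸ Ideal.span ({f i, g} : Set A)) := by
  classical
  induction s using Finset.induction_on with
  | empty =>
    rw [Finset.sum_empty]
    exact Module.length_eq_zero_iff.2 (Ideal.Quotient.subsingleton_iff.2
      ((Ideal.eq_top_iff_one _).2 (Ideal.subset_span (Or.inl Finset.prod_empty.symm))))
  | insert a s has ih =>
    rw [Finset.prod_insert has, Finset.sum_insert has, length_mul _ _ _ (h a (Finset.mem_insert_self a s)),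
      ih fun i hi => h i (Finset.mem_insert_of_mem hi)]

theorem pi_mod (n : ℕ) (f : Fin n → A) (hcop : ∀ i j, i ≠ j → IsRelPrime (f i) (f j))
    (φ : (A ⧸ Ideal.span {∏ i, f i}) →ₗ[A] ((i : Fin n) → A ⧸ Ideal.span {f i}))
    (hφ : ∀ x i, φ (Submodule.Quotient.mk x) i = Submodule.Quotient.mk x) :
    Function.Injective φ ∧
      Module.length A (((i : Fin n) → A ⧸ Ideal.span {f i}) ⧸ LinearMap.range φ) =
        ∑ p ∈ (Finset.univ : Finset (Fin n × Fin n)) with p.1 < p.2,
          Module.length A (A ⧸ Ideal.span ({f p.1, f p.2} : Set A)) := by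
  induction n with
  | zero =>
    refine ⟨?_, ?_⟩
    · intro a b _
      haveI : Subsingleton (A ⧸ Ideal.span {∏ i, f i}) := Ideal.Quotient.subsingleton_iff.2 (by simp)
      exact Subsingleton.elim a b
    · refine (Module.length_eq_zero_iff.2 inferInstance).trans (Finset.sum_eq_zero fun p _ => ?_).symm
      exact p.1.elim0
  | succ n ih =>
    let g := f 0
    let f' : Fin n → A := fun i => f i.succ
    have hsplit : ∏ i, f i = g * ∏ i, f' i := Fin.prod_univ_succ f
    let φ' : (A ⧸ Ideal.span {∏ i, f' i}) →ₗ[A] ((i : Fin n) → A ⧸ Ideal.span {f' i}) :=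
      LinearMap.pi fun i => Submodule.mapQ (Ideal.span {∏ i, f' i}) (Ideal.span {f' i}) LinearMap.id
        (Ideal.span_singleton_le_span_singleton.mpr (Finset.dvd_prod_of_mem f' (Finset.mem_univ i)))
    obtain ⟨hinj', hlen'⟩ := ih f' (fun i j hij => hcop _ _ fun e => hij (Fin.succ_injective _ e)) φ' (fun x i => rfl)
    have hrel : IsRelPrime g (∏ i, f' i) := IsRelPrime.prod_right fun i _ => hcop _ _ (Fin.succ_ne_zero i).symm
    refine ⟨?_, ?_⟩
    · rw [injective_iff_map_eq_zero]
      intro z hz
      obtain ⟨x, rfl⟩ := Submodule.Quotient.mk_surjective _ z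
      have h0 := congrFun hz 0
      rw [hφ, Pi.zero_apply, Submodule.Quotient.mk_eq_zero, Ideal.mem_span_singleton] at h0
      have h1 : φ' (Submodule.Quotient.mk x) = 0 := funext fun i => (hφ x i.succ).symm.trans (congrFun hz i.succ)
      rw [← map_zero φ'] at h1
      have h2 := hinj' h1
      rw [Submodule.Quotient.mk_eq_zero, Ideal.mem_span_singleton] at h2
      rw [Submodule.Quotient.mk_eq_zero, Ideal.mem_span_singleton, hsplit]
      exact hrel.mul_dvd h0 h2
    · let Q := ((i : Fin n) → A ⧸ Ideal.span {f' i}) ⧸ LinearMap.range φ'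
      let B := A ⧸ Ideal.span ({∏ i, f' i, g} : Set A)
      -- `B → coker φ → coker φ'`
      let ins : (A ⧸ Ideal.span {g}) →ₗ[A] ((i : Fin (n + 1)) → A ⧸ Ideal.span {f i}) :=
        LinearMap.single A (fun i => A ⧸ Ideal.span {f i}) 0
      have ins0 : ∀ z : A ⧸ Ideal.span {g}, ins z 0 = z := fun z => Pi.single_eq_same (M := fun i => A ⧸ Ideal.span {f i}) 0 z
      have inss : ∀ (z : A ⧸ Ideal.span {g}) (i : Fin n), ins z i.succ = 0 := fun z i =>
        Pi.single_eq_of_ne (M := fun i => A ⧸ Ideal.span {f i}) (Fin.succ_ne_zero i) z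
      let tl : ((i : Fin (n + 1)) → A ⧸ Ideal.span {f i}) →ₗ[A] ((i : Fin n) → A ⧸ Ideal.span {f' i}) :=
        LinearMap.pi fun i => LinearMap.proj i.succ
      let α₀ : A →ₗ[A] ((i : Fin (n + 1)) → A ⧸ Ideal.span {f i}) ⧸ LinearMap.range φ :=
        (LinearMap.range φ).mkQ ∘ₗ ins ∘ₗ (Ideal.span {g}).mkQ
      have hα₀ : Ideal.span ({∏ i, f' i, g} : Set A) ≤ LinearMap.ker α₀ := by
        rw [Ideal.span_le]
        intro y hy
        rcases hy with rfl | rfl
        · rw [SetLike.mem_coe, LinearMap.mem_ker]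
          simp only [α₀, LinearMap.comp_apply, Submodule.mkQ_apply, Submodule.Quotient.mk_eq_zero, LinearMap.mem_range]
          refine ⟨Submodule.Quotient.mk (∏ i, f' i), funext fun j => ?_⟩
          rw [hφ]
          induction j using Fin.cases with
          | zero => rw [ins0]
          | succ j =>
            rw [inss,
              Submodule.Quotient.mk_eq_zero, Ideal.mem_span_singleton]
            exact Finset.dvd_prod_of_mem f' (Finset.mem_univ j)
        · rw [SetLike.mem_coe, LinearMap.mem_ker]
          simp only [α₀, LinearMap.comp_apply, Submodule.mkQ_apply]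
          rw [(Submodule.Quotient.mk_eq_zero _).2 (Ideal.mem_span_singleton_self g), map_zero, Submodule.Quotient.mk_zero]
      let α : B →ₗ[A] _ := Submodule.liftQ _ α₀ hα₀
      let β : (((i : Fin (n + 1)) → A ⧸ Ideal.span {f i}) ⧸ LinearMap.range φ) →ₗ[A] Q :=
        Submodule.mapQ _ _ tl (by
          rintro _ ⟨z, rfl⟩
          obtain ⟨x, rfl⟩ := Submodule.Quotient.mk_surjective _ z
          exact ⟨Submodule.Quotient.mk x, funext fun i => (hφ x i.succ).symm⟩)
      have hlen := Module.length_eq_add_of_exact α β ?_ ?_ ?_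
      · rw [hlen, hlen', length_prod_coprime _ _ _ (fun i _ => hcop _ _ (Fin.succ_ne_zero i))]
        rw [Finset.sum_filter, Finset.sum_filter, Fintype.sum_prod_type, Fintype.sum_prod_type, Fin.sum_univ_succ]
        congr 1
        · rw [Fin.sum_univ_succ, if_neg (lt_irrefl _), zero_add]
          refine Finset.sum_congr rfl fun i _ => ?_
          rw [if_pos (Fin.succ_pos i), Set.pair_comm]
        · refine Finset.sum_congr rfl fun i _ => ?_
          rw [Fin.sum_univ_succ, if_neg (by simp [Fin.not_lt_zero]), zero_add]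
          simp only [Fin.succ_lt_succ_iff]
          rfl
      · rw [injective_iff_map_eq_zero]
        intro z hz
        obtain ⟨x, rfl⟩ := Submodule.Quotient.mk_surjective _ z
        obtain ⟨w, hw⟩ := (Submodule.Quotient.mk_eq_zero _).1 hz
        obtain ⟨y, rfl⟩ := Submodule.Quotient.mk_surjective _ w
        have h0 := congrFun hw 0
        rw [hφ] at h0
        rw [LinearMap.comp_apply, ins0, Submodule.mkQ_apply] at h0
        have h1 : φ' (Submodule.Quotient.mk y) = 0 := funext fun i => by
          refine (hφ y i.succ).symm.trans ((congrFun hw i.succ).trans ?_)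
          exact inss ((Ideal.span {g}).mkQ x) i
        rw [← map_zero φ'] at h1
        have h2 := hinj' h1
        rw [Submodule.Quotient.mk_eq_zero, Ideal.mem_span_singleton] at h2
        obtain ⟨c, hc⟩ := Ideal.mem_span_singleton.1 ((Submodule.Quotient.eq _).1 h0)
        obtain ⟨e, he⟩ := h2
        rw [Submodule.Quotient.mk_eq_zero]
        exact Ideal.mem_span_pair.2 ⟨e, -c, by linear_combination -he + hc⟩
      · intro z
        obtain ⟨w, rfl⟩ := Submodule.Quotient.mk_surjective _ z
        exact ⟨Submodule.Quotient.mk (Fin.cons 0 w), congrArg Submodule.Quotient.mk (funext fun i => by simp [tl])⟩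
      · intro z
        obtain ⟨w, rfl⟩ := Submodule.Quotient.mk_surjective _ z
        constructor
        · intro hz
          obtain ⟨y, hy⟩ := (Submodule.Quotient.mk_eq_zero _).1 hz
          obtain ⟨y, rfl⟩ := Submodule.Quotient.mk_surjective _ y
          obtain ⟨x, hx⟩ := Submodule.Quotient.mk_surjective _ (w 0 - Submodule.Quotient.mk y)
          refine ⟨Submodule.Quotient.mk x, ?_⟩
          show (LinearMap.range φ).mkQ (ins ((Ideal.span {g}).mkQ x)) = _
          rw [Submodule.mkQ_apply, Submodule.Quotient.eq]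
          refine ⟨-Submodule.Quotient.mk y, funext fun j => ?_⟩
          rw [map_neg, Pi.neg_apply, hφ]
          induction j using Fin.cases with
          | zero =>
            rw [Pi.sub_apply, ins0, Submodule.mkQ_apply, hx]
            exact (sub_sub_cancel_left (w 0) _).symm
          | succ j =>
            rw [Pi.sub_apply, inss, zero_sub]
            exact congrArg Neg.neg (congrFun hy j)
        · rintro ⟨v, hv⟩
          obtain ⟨x, rfl⟩ := Submodule.Quotient.mk_surjective _ v
          rw [← hv]
          show β ((LinearMap.range φ).mkQ (ins ((Ideal.span {g}).mkQ x))) = 0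
          refine (Submodule.Quotient.mk_eq_zero _).2 ?_
          rw [show tl (ins ((Ideal.span {g}).mkQ x)) = 0 from funext fun i => inss ((Ideal.span {g}).mkQ x) i]
          exact zero_mem _

end Groth.Agent.DimTwoLib
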